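import Mathlib.AlgebraicGeometry.SpreadingOut
import Mathlib.AlgebraicGeometry.Morphisms.FinitePresentation

universe u

open CategoryTheory AlgebraicGeometry

namespace Groth.Agent.RatMap

variable {X Y S : Scheme.{u}} (sX : X ⟶ S) (sY : Y ⟶ S)

/-- `spread_out_unique_of_isGermInjective'` without germ injectivity, for a target locally of
finite type over a common base. -/
lemma spread_out_unique_of_locallyOfFiniteType [LocallyOfFiniteType sY] {x : X}
    (f g : X ⟶ Y) (hf : f ≫ sY = sX) (hg : g ≫ sY = sX)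
    (e : X.fromSpecStalk x ≫ f = X.fromSpecStalk x ≫ g) :
    ∃ W : X.Opens, x ∈ W ∧ W.ι ≫ f = W.ι ≫ g := by
  classical
  have e' : f x = g x := by
    have := congr($e (IsLocalRing.closedPoint _))
    exact (congrArg f Scheme.fromSpecStalk_closedPoint.symm).trans
      (this.trans (congrArg g Scheme.fromSpecStalk_closedPoint))
  obtain ⟨_, ⟨U : S.Opens, hU : IsAffineOpen U, rfl⟩, hxU, -⟩ :=
    S.isBasis_affineOpens.exists_subset_of_mem_open (Set.mem_univ (sY (f x))) isOpen_univ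
  obtain ⟨_, ⟨V : Y.Opens, hV : IsAffineOpen V, rfl⟩, hxV, iVU'⟩ :=
    Y.isBasis_affineOpens.exists_subset_of_mem_open
      (show f x ∈ (sY ⁻¹ᵁ U : Y.Opens) from hxU) (sY ⁻¹ᵁ U).2
  have iVU : V ≤ sY ⁻¹ᵁ U := iVU'
  have hxV' : g x ∈ V := e' ▸ hxV
  obtain ⟨_, ⟨W : X.Opens, hW : IsAffineOpen W, rfl⟩, hxW, iW⟩ :=
    X.isBasis_affineOpens.exists_subset_of_mem_open
      (show x ∈ (f ⁻¹ᵁ V ⊓ g ⁻¹ᵁ V : X.Opens) from ⟨hxV, hxV'⟩) (f ⁻¹ᵁ V ⊓ g ⁻¹ᵁ V).2
  have iWf : W ≤ f ⁻¹ᵁ V := fun z hz => (iW hz).1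
  have iWg : W ≤ g ⁻¹ᵁ V := fun z hz => (iW hz).2
  have iWU : W ≤ sX ⁻¹ᵁ U := by
    intro z hz
    show sX z ∈ U
    rw [← hf]
    exact iVU (iWf hz)
  set a := f.appLE V W iWf with ha
  set b := g.appLE V W iWg with hb
  have ha_spec : Spec.map a ≫ hV.fromSpec = hW.fromSpec ≫ f :=
    hV.SpecMap_appLE_fromSpec f hW iWf
  have hb_spec : Spec.map b ≫ hV.fromSpec = hW.fromSpec ≫ g :=
    hV.SpecMap_appLE_fromSpec g hW iWg
  have hgerm : a ≫ X.presheaf.germ W x hxW = b ≫ X.presheaf.germ W x hxW := by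
    apply Spec.map_injective
    rw [← cancel_mono hV.fromSpec, Spec.map_comp, Spec.map_comp, Category.assoc, Category.assoc,
      ha_spec, hb_spec, ← Category.assoc, ← Category.assoc]
    change hW.fromSpecStalk hxW ≫ f = hW.fromSpecStalk hxW ≫ g
    simpa [hW.fromSpecStalk_eq_fromSpecStalk hxW] using e
  have hbase : sY.appLE U V iVU ≫ a = sY.appLE U V iVU ≫ b := by
    rw [ha, hb, Scheme.Hom.appLE_comp_appLE, Scheme.Hom.appLE_comp_appLE]
    congr 1
    rw [hf, hg]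
  have hft : (sY.appLE U V iVU).hom.FiniteType := sY.finiteType_appLE hU hV _
  algebraize [(sY.appLE U V iVU).hom]
  obtain ⟨s, hs⟩ := hft
  have hgen : ∀ t : Γ(Y, V), ∃ W' : X.Opens, x ∈ W' ∧ ∃ h : W' ≤ W,
      X.presheaf.map (homOfLE h).op (a t) = X.presheaf.map (homOfLE h).op (b t) := by
    intro t
    obtain ⟨W', hxW', i₁, i₂, h⟩ := X.presheaf.germ_eq x hxW hxW (a t) (b t)
      (by simpa using congr($hgerm t))
    exact ⟨W', hxW', i₁.le, h⟩
  choose W' hxW' hW'W hW'eq using hgen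
  obtain ⟨_, ⟨Z : X.Opens, hZ : IsAffineOpen Z, rfl⟩, hxZ, iZ⟩ :=
    X.isBasis_affineOpens.exists_subset_of_mem_open
      (show x ∈ (s.inf W' ⊓ W : X.Opens) from by
        refine ⟨?_, hxW⟩
        rw [SetLike.mem_coe, ← SetLike.mem_coe, TopologicalSpace.Opens.coe_finset_inf]
        simpa using fun t _ => hxW' t) (s.inf W' ⊓ W).2
  have iZW : Z ≤ W := fun z hz => (iZ hz).2
  have key : a ≫ X.presheaf.map (homOfLE iZW).op = b ≫ X.presheaf.map (homOfLE iZW).op := by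
    let a' := (a ≫ X.presheaf.map (homOfLE iZW).op).hom
    let b' := (b ≫ X.presheaf.map (homOfLE iZW).op).hom
    suffices ∀ t, a' t = b' t by ext t; exact this t
    intro t
    have ht : t ∈ Algebra.adjoin Γ(S, U) (s : Set Γ(Y, V)) := hs ▸ Algebra.mem_top
    induction ht using Algebra.adjoin_induction with
    | mem t ht =>
      have h := hW'eq t
      have iZ' : Z ≤ W' t := fun z hz => (Finset.inf_le (f := W') ht : s.inf W' ≤ W' t) (iZ hz).1
      have := congr(X.presheaf.map (homOfLE iZ').op $h)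
      simp only [← CommRingCat.comp_apply, Category.assoc, ← X.presheaf.map_comp] at this
      exact this
    | algebraMap r =>
      change (sY.appLE U V iVU ≫ a ≫ X.presheaf.map (homOfLE iZW).op).hom r =
        (sY.appLE U V iVU ≫ b ≫ X.presheaf.map (homOfLE iZW).op).hom r
      rw [reassoc_of% hbase]
    | add x y _ _ hx hy => simp only [map_add, hx, hy]
    | mul x y _ _ hx hy => simp only [map_mul, hx, hy]
  refine ⟨Z, hxZ, ?_⟩
  rw [← cancel_epi hZ.isoSpec.inv, hZ.isoSpec_inv_ι_assoc, hZ.isoSpec_inv_ι_assoc,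
    ← hV.SpecMap_appLE_fromSpec f hZ (iZW.trans iWf),
    ← hV.SpecMap_appLE_fromSpec g hZ (iZW.trans iWg)]
  congr 2
  simpa [ha, hb] using key

/-- A morphism from the spectrum of a stalk to a target locally of finite presentation spreads
out, without germ injectivity. -/
lemma spread_out_of_locallyOfFinitePresentation [LocallyOfFinitePresentation sY] {x : X}
    (φ : Spec (X.presheaf.stalk x) ⟶ Y) (h : φ ≫ sY = X.fromSpecStalk x ≫ sX) :
    ∃ (W : X.Opens) (hxW : x ∈ W) (f : W.toScheme ⟶ Y),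
      φ = W.fromSpecStalkOfMem x hxW ≫ f ∧ f ≫ sY = W.ι ≫ sX := by
  classical
  set y := φ (IsLocalRing.closedPoint _) with hy
  have hxy : sX x = sY y := by
    have := congr($h (IsLocalRing.closedPoint _))
    exact ((this : sY y = _).trans (congrArg sX Scheme.fromSpecStalk_closedPoint)).symm
  obtain ⟨_, ⟨U : S.Opens, hU : IsAffineOpen U, rfl⟩, hxU, -⟩ :=
    S.isBasis_affineOpens.exists_subset_of_mem_open (Set.mem_univ (sX x)) isOpen_univ
  obtain ⟨_, ⟨V : Y.Opens, hV : IsAffineOpen V, rfl⟩, hyV, iVU'⟩ :=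
    Y.isBasis_affineOpens.exists_subset_of_mem_open
      (show y ∈ (sY ⁻¹ᵁ U : Y.Opens) from show sY y ∈ U from hxy ▸ hxU) (sY ⁻¹ᵁ U).2
  have iVU : V ≤ sY ⁻¹ᵁ U := iVU'
  obtain ⟨_, ⟨W : X.Opens, hW : IsAffineOpen W, rfl⟩, hxW, iWU'⟩ :=
    X.isBasis_affineOpens.exists_subset_of_mem_open
      (show x ∈ (sX ⁻¹ᵁ U : X.Opens) from hxU) (sX ⁻¹ᵁ U).2
  have iWU : W ≤ sX ⁻¹ᵁ U := iWU'
  -- `φ` factors through `V`
  obtain ⟨ψ, hψ⟩ : ∃ ψ : Γ(Y, V) ⟶ X.presheaf.stalk x, Spec.map ψ ≫ hV.fromSpec = φ := by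
    have hrange : Set.range φ ⊆ Set.range hV.fromSpec := by
      rintro _ ⟨z, rfl⟩
      rw [hV.range_fromSpec]
      exact (IsLocalRing.specializes_closedPoint z).map φ.continuous |>.mem_open V.2 hyV
    refine ⟨Spec.preimage (IsOpenImmersion.lift hV.fromSpec φ hrange), ?_⟩
    simp [IsOpenImmersion.lift_fac]
  set r := sY.appLE U V iVU with hr
  set q := sX.appLE U W iWU with hq
  have hsq : r ≫ ψ = q ≫ X.presheaf.germ W x hxW := by
    apply Spec.map_injective
    rw [← cancel_mono hU.fromSpec, Spec.map_comp, Spec.map_comp, Category.assoc, Category.assoc,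
      hU.SpecMap_appLE_fromSpec sY hV iVU, hU.SpecMap_appLE_fromSpec sX hW iWU,
      reassoc_of% hψ, h, ← Category.assoc]
    change _ = hW.fromSpecStalk hxW ≫ sX
    rw [hW.fromSpecStalk_eq_fromSpecStalk hxW]
  have hfp : r.hom.FinitePresentation := sY.finitePresentation_appLE hU hV _
  algebraize [r.hom]
  obtain ⟨n, π, hπ, hker⟩ := Algebra.FinitePresentation.out (R := Γ(S, U)) (A := Γ(Y, V))
  obtain ⟨rels, hrels⟩ := hker
  choose Wi hxWi si hsi using fun i : Fin n => X.presheaf.exists_germ_eq (ψ (π (.X i)))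
  let W₁ : X.Opens := Finset.univ.inf Wi ⊓ W
  have hxW₁ : x ∈ W₁ := by
    refine ⟨?_, hxW⟩
    rw [SetLike.mem_coe, ← SetLike.mem_coe, TopologicalSpace.Opens.coe_finset_inf]
    simpa using hxWi
  have i₁ : W₁ ≤ W := inf_le_right
  have i₂ : ∀ i, W₁ ≤ Wi i := fun i => inf_le_left.trans (Finset.inf_le (Finset.mem_univ i))
  let Φ : MvPolynomial (Fin n) Γ(S, U) →+* Γ(X, W₁) :=
    MvPolynomial.eval₂Hom ((q ≫ X.presheaf.map (homOfLE i₁).op).hom)
      fun i => X.presheaf.map (homOfLE (i₂ i)).op (si i)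
  have hΦ : (X.presheaf.germ W₁ x hxW₁).hom.comp Φ = ψ.hom.comp π.toRingHom := by
    refine MvPolynomial.ringHom_ext (fun c => ?_) fun i => ?_
    · simp only [RingHom.comp_apply, Φ, MvPolynomial.eval₂Hom_C]
      change X.presheaf.germ W₁ x hxW₁ (X.presheaf.map (homOfLE i₁).op (q c)) = ψ (π (.C c))
      rw [X.presheaf.germ_res_apply]
      have : π (MvPolynomial.C c) = r c := π.commutes c
      rw [this]
      exact (congr($hsq c)).symm
    · simp only [RingHom.comp_apply, Φ, MvPolynomial.eval₂Hom_X']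
      change X.presheaf.germ W₁ x hxW₁ (X.presheaf.map (homOfLE (i₂ i)).op (si i)) = _
      rw [X.presheaf.germ_res_apply]
      exact hsi i
  have hvanish : ∀ p ∈ rels, ∃ W' : X.Opens, x ∈ W' ∧ ∃ i : W' ≤ W₁,
      X.presheaf.map (homOfLE i).op (Φ p) = 0 := by
    intro p hp
    have hp0 : π p = 0 := by
      have : p ∈ RingHom.ker π.toRingHom := hrels ▸ Ideal.subset_span hp
      exact this
    have : X.presheaf.germ W₁ x hxW₁ (Φ p) = X.presheaf.germ W₁ x hxW₁ 0 := by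
      rw [map_zero]
      exact (congr($hΦ p)).trans (by simp [hp0])
    obtain ⟨W', hxW', j₁, j₂, hj⟩ := X.presheaf.germ_eq x hxW₁ hxW₁ _ _ this
    rw [map_zero] at hj
    exact ⟨W', hxW', j₁.le, hj⟩
  choose W' hxW' iW' hW' using hvanish
  obtain ⟨_, ⟨Z : X.Opens, hZ : IsAffineOpen Z, rfl⟩, hxZ, iZ⟩ :=
    X.isBasis_affineOpens.exists_subset_of_mem_open
      (show x ∈ (rels.attach.inf (fun p => W' p.1 p.2) ⊓ W₁ : X.Opens) from by
        refine ⟨?_, hxW₁⟩
        rw [SetLike.mem_coe, ← SetLike.mem_coe, TopologicalSpace.Opens.coe_finset_inf]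
        simpa using fun p hp => hxW' p hp) (rels.attach.inf (fun p => W' p.1 p.2) ⊓ W₁).2
  have iZ₁ : Z ≤ W₁ := fun z hz => (iZ hz).2
  let ΦZ : MvPolynomial (Fin n) Γ(S, U) →+* Γ(X, Z) :=
    (X.presheaf.map (homOfLE iZ₁).op).hom.comp Φ
  have hkerΦ : RingHom.ker π.toRingHom ≤ RingHom.ker ΦZ := by
    rw [← hrels, Ideal.span_le]
    intro p hp
    have iZp : Z ≤ W' p hp := fun z hz =>
      (Finset.inf_le (f := fun p : {x // x ∈ rels} => W' p.1 p.2) (Finset.mem_attach rels ⟨p, hp⟩))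
        (iZ hz).1
    have := congr(X.presheaf.map (homOfLE iZp).op $(hW' p hp))
    rw [map_zero, ← CommRingCat.comp_apply, ← X.presheaf.map_comp] at this
    exact this
  let a : Γ(Y, V) ⟶ Γ(X, Z) :=
    CommRingCat.ofHom (π.toRingHom.liftOfSurjective hπ ⟨ΦZ, hkerΦ⟩)
  have ha : ∀ p, a (π p) = ΦZ p := fun p =>
    RingHom.liftOfRightInverse_comp_apply π.toRingHom _ _ ⟨ΦZ, hkerΦ⟩ p
  have ha_germ : a ≫ X.presheaf.germ Z x hxZ = ψ := by
    ext t
    obtain ⟨p, rfl⟩ := hπ t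
    rw [CommRingCat.comp_apply, ha]
    change X.presheaf.germ Z x hxZ (X.presheaf.map (homOfLE iZ₁).op (Φ p)) = _
    rw [X.presheaf.germ_res_apply]
    exact congr($hΦ p)
  have ha_base : r ≫ a = q ≫ X.presheaf.map (homOfLE (iZ₁.trans i₁)).op := by
    ext c
    have : r c = π (MvPolynomial.C c) := (π.commutes c).symm
    rw [CommRingCat.comp_apply, this, ha]
    simp only [ΦZ, Φ, RingHom.comp_apply, MvPolynomial.eval₂Hom_C]
    rw [← CommRingCat.comp_apply, Category.assoc, ← X.presheaf.map_comp]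
    rfl
  refine ⟨Z, hxZ, Z.toSpecΓ ≫ Spec.map a ≫ hV.fromSpec, ?_, ?_⟩
  · rw [Z.fromSpecStalkOfMem_toSpecΓ_assoc x hxZ, ← Spec.map_comp_assoc, ha_germ, hψ]
  · simp only [Category.assoc]
    rw [← IsAffineOpen.SpecMap_appLE_fromSpec sY hU hV iVU, ← Spec.map_comp_assoc, ← hr, ha_base,
      hq, Scheme.Hom.appLE_map, ← hZ.isoSpec_hom,
      IsAffineOpen.SpecMap_appLE_fromSpec sX hU hZ _,
      ← Iso.eq_inv_comp, IsAffineOpen.isoSpec_inv_ι_assoc]

end Groth.Agent.RatMap
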